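import Groth.Agent.MilnorLib.Basic
import Groth.Agent.FerrandPush.Algebra
import Groth.Agent.FSDescent.Ring
/-!
Properties of algebras over a Milnor square are tested on the two base changes.
-/

set_option autoImplicit false

universe u

open TensorProduct

namespace Groth.Agent.MilnorLib

variable {B' B A' A : Type u} [CommRing B'] [CommRing B] [CommRing A'] [CommRing A]
    [Algebra B' B] [Algebra B' A'] [Algebra B A] [Algebra A' A] [Algebra B' A]
    [IsScalarTower B' B A] [IsScalarTower B' A' A]

section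
variable (hsq : EtMil.IsFibreSquare B' B A' A) (D : Type u) [CommRing D] [Algebra B' D]
include hsq

/-- An algebra is of finite type as soon as both base changes are. -/
theorem finiteType [Algebra.FiniteType B (B ⊗[B'] D)] [Algebra.FiniteType A' (A' ⊗[B'] D)] :
    Algebra.FiniteType B' D := by
  classical
  have hlift : ∀ (R : Type u) [CommRing R] [Algebra B' R] (x : R ⊗[B'] D),
      ∃ s : Finset D, x ∈ Algebra.adjoin R ((fun d => (1 : R) ⊗ₜ[B'] d) '' (s : Set D)) := by
    intro R _ _ x
    induction x using TensorProduct.induction_on with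
    | zero => exact ⟨∅, zero_mem _⟩
    | tmul a d =>
      refine ⟨{d}, ?_⟩
      rw [show a ⊗ₜ[B'] d = a • ((1 : R) ⊗ₜ[B'] d) by rw [smul_tmul', smul_eq_mul, mul_one]]
      refine Subalgebra.smul_mem _ (Algebra.subset_adjoin ?_) a
      exact ⟨d, by simp, rfl⟩
    | add a b ha hb =>
      obtain ⟨T, hT⟩ := ha; obtain ⟨T', hT'⟩ := hb
      exact ⟨T ∪ T', add_mem (Algebra.adjoin_mono (Set.image_mono (by simp)) hT)
        (Algebra.adjoin_mono (Set.image_mono (by simp)) hT')⟩
  obtain ⟨s, hs⟩ := (‹Algebra.FiniteType B (B ⊗[B'] D)›).out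
  obtain ⟨t, ht⟩ := (‹Algebra.FiniteType A' (A' ⊗[B'] D)›).out
  choose f hf using hlift B
  choose g hg using hlift A'
  let T : Finset D := s.biUnion f ∪ t.biUnion g
  let E : Subalgebra B' D := Algebra.adjoin B' (T : Set D)
  have hkill : ∀ (R : Type u) [CommRing R] [Algebra B' R] (x : R ⊗[B'] D),
      x ∈ Algebra.adjoin R ((fun d => (1 : R) ⊗ₜ[B'] d) '' (T : Set D)) →
      (Subalgebra.toSubmodule E).mkQ.baseChange R x = 0 := by
    intro R _ _ x hx
    have hmem : x ∈ (Algebra.TensorProduct.map (AlgHom.id R R) E.val).range := by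
      refine Algebra.adjoin_le ?_ hx
      rintro _ ⟨d, hd, rfl⟩
      exact ⟨(1 : R) ⊗ₜ[B'] (⟨d, Algebra.subset_adjoin hd⟩ : E), by simp⟩
    obtain ⟨y, rfl⟩ := hmem
    clear hx
    induction y using TensorProduct.induction_on with
    | zero => simp
    | tmul r e =>
      simp only [AlgHom.toRingHom_eq_coe, RingHom.coe_coe, Algebra.TensorProduct.map_tmul, AlgHom.id_apply]
      rw [LinearMap.baseChange_tmul, Submodule.mkQ_apply,
        (Submodule.Quotient.mk_eq_zero _).2 (show E.val e ∈ Subalgebra.toSubmodule E from e.2), tmul_zero]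
    | add a b ha hb =>
      simp only [AlgHom.toRingHom_eq_coe, RingHom.coe_coe, map_add] at ha hb ⊢
      rw [ha, hb, add_zero]
  have h1 : Subsingleton (B ⊗[B'] (D ⧸ Subalgebra.toSubmodule E)) := by
    refine subsingleton_of_forall_eq 0 fun x => ?_
    obtain ⟨y, rfl⟩ := LinearMap.baseChange_surjective B (Subalgebra.toSubmodule E).mkQ_surjective x
    refine hkill B y (Algebra.adjoin_le ?_ (hs ▸ Algebra.mem_top : y ∈ Algebra.adjoin B (s : Set (B ⊗[B'] D))))
    intro z hz
    refine Algebra.adjoin_mono (Set.image_mono ?_) (hf z)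
    intro d hd
    simp only [T, Finset.coe_union, Set.mem_union, Finset.mem_coe, Finset.mem_biUnion]
    exact Or.inl ⟨z, hz, hd⟩
  have h2 : Subsingleton (A' ⊗[B'] (D ⧸ Subalgebra.toSubmodule E)) := by
    refine subsingleton_of_forall_eq 0 fun x => ?_
    obtain ⟨y, rfl⟩ := LinearMap.baseChange_surjective A' (Subalgebra.toSubmodule E).mkQ_surjective x
    refine hkill A' y (Algebra.adjoin_le ?_ (ht ▸ Algebra.mem_top : y ∈ Algebra.adjoin A' (t : Set (A' ⊗[B'] D))))
    intro z hz
    refine Algebra.adjoin_mono (Set.image_mono ?_) (hg z)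
    intro d hd
    simp only [T, Finset.coe_union, Set.mem_union, Finset.mem_coe, Finset.mem_biUnion]
    exact Or.inr ⟨z, hz, hd⟩
  have h3 := subsingleton hsq (L := D ⧸ Subalgebra.toSubmodule E)
  exact ⟨⟨T, Algebra.toSubmodule_eq_top.1 (Submodule.Quotient.subsingleton_iff.1 h3)⟩⟩

end

/-- The kernel of an evaluation commutes with base change. -/
theorem ker_aeval_baseChange {R : Type u} [CommRing R] [Algebra B' R] {D : Type u} [CommRing D] [Algebra B' D]
    {σ : Type u} (g : σ → D) (hg : Function.Surjective (MvPolynomial.aeval (R := B') g)) :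
    RingHom.ker (MvPolynomial.aeval (R := R) fun i => (1 : R) ⊗ₜ[B'] g i) =
      (RingHom.ker (MvPolynomial.aeval (R := B') g)).map (MvPolynomial.map (algebraMap B' R)) := by
  let e : R ⊗[B'] MvPolynomial σ B' ≃ₐ[R] MvPolynomial σ R := MvPolynomial.algebraTensorAlgEquiv B' R
  let π : R ⊗[B'] MvPolynomial σ B' →ₐ[R] R ⊗[B'] D :=
    Algebra.TensorProduct.map (AlgHom.id R R) (MvPolynomial.aeval g)
  have hπ : π = (MvPolynomial.aeval (R := R) fun i => (1 : R) ⊗ₜ[B'] g i).comp e.toAlgHom := by
    apply Algebra.TensorProduct.ext (AlgHom.ext fun r => by simp [π, e, MvPolynomial.algebraTensorAlgEquiv_tmul, Algebra.algebraMap_eq_smul_one, TensorProduct.smul_tmul', Algebra.TensorProduct.one_def])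
    refine MvPolynomial.algHom_ext fun i => ?_
    simp [π, e]
  have hk : RingHom.ker π =
      (RingHom.ker (MvPolynomial.aeval (R := B') g)).map
        (Algebra.TensorProduct.includeRight : MvPolynomial σ B' →ₐ[B'] R ⊗[B'] MvPolynomial σ B') :=
    Algebra.TensorProduct.lTensor_ker (A := R) (MvPolynomial.aeval (R := B') g) hg
  ext x
  rw [show x = e (e.symm x) from (e.apply_symm_apply x).symm]
  have h1 : e (e.symm x) ∈ RingHom.ker (MvPolynomial.aeval (R := R) fun i => (1 : R) ⊗ₜ[B'] g i) ↔
      e.symm x ∈ RingHom.ker π := by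
    rw [hπ]
    rfl
  have h2 : (MvPolynomial.map (algebraMap B' R) : MvPolynomial σ B' →+* MvPolynomial σ R) =
      e.toRingEquiv.toRingHom.comp (Algebra.TensorProduct.includeRight :
        MvPolynomial σ B' →ₐ[B'] R ⊗[B'] MvPolynomial σ B').toRingHom := by
    ext p <;> simp [e]
  rw [h1, hk, h2, ← Ideal.map_map, show e (e.symm x) = e.toRingEquiv.toRingHom (e.symm x) from rfl]
  rw [Ideal.mem_map_iff_of_surjective _ (show Function.Surjective e.toRingEquiv.toRingHom from e.surjective)]
  constructor
  · intro h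
    exact ⟨_, h, rfl⟩
  · rintro ⟨y, hy, hxy⟩
    rwa [show y = e.symm x from e.injective hxy] at hy

/-- Intersecting with a submodule of flat quotient. -/
theorem mem_smul_of_flat_quotient {R M : Type u} [CommRing R] [AddCommGroup M] [Module R M] (I : Ideal R)
    (N : Submodule R M) [Module.Flat R (M ⧸ N)] {x : M} (hx : x ∈ I • (⊤ : Submodule R M)) (hxN : x ∈ N) :
    x ∈ I • N := by
  let μ : ∀ (P : Type u) [AddCommGroup P] [Module R P], I ⊗[R] P →ₗ[R] P := fun P _ _ =>
    (TensorProduct.lid R P).toLinearMap ∘ₗ I.subtype.rTensor P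
  have hnat : ∀ {P Q : Type u} [AddCommGroup P] [Module R P] [AddCommGroup Q] [Module R Q] (f : P →ₗ[R] Q)
      (t : I ⊗[R] P), μ Q (f.lTensor I t) = f (μ P t) := by
    intro P Q _ _ _ _ f t
    induction t using TensorProduct.induction_on with
    | zero => simp
    | tmul i p => simp [μ]
    | add a b ha hb => simp [map_add, ha, hb]
  obtain ⟨t, rfl⟩ : ∃ t, μ M t = x := by
    refine Submodule.smul_induction_on hx (fun i hi p _ => ⟨(⟨i, hi⟩ : I) ⊗ₜ p, by simp [μ]⟩) ?_
    rintro a b ⟨s, rfl⟩ ⟨s', rfl⟩
    exact ⟨s + s', map_add _ _ _⟩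
  have hinj : Function.Injective (μ (M ⧸ N)) :=
    (TensorProduct.lid R (M ⧸ N)).injective.comp
      (Module.Flat.rTensor_preserves_injective_linearMap I.subtype Subtype.val_injective)
  have h0 : N.mkQ.lTensor I t = 0 := hinj (by
    rw [hnat, map_zero, Submodule.mkQ_apply, Submodule.Quotient.mk_eq_zero]
    exact hxN)
  obtain ⟨s, rfl⟩ := (lTensor_exact I (LinearMap.exact_subtype_mkQ N) N.mkQ_surjective t).1 h0
  rw [hnat]
  clear hx hxN h0
  induction s using TensorProduct.induction_on with
  | zero => simp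
  | tmul i n =>
    simp only [μ, LinearMap.comp_apply, LinearMap.rTensor_tmul, LinearEquiv.coe_coe, lid_tmul,
      Submodule.subtype_apply]
    exact Submodule.smul_mem_smul i.2 n.2
  | add a b ha hb =>
    rw [map_add, map_add]
    exact add_mem ha hb

section
variable (hsq : EtMil.IsFibreSquare B' B A' A) (D : Type u) [CommRing D] [Algebra B' D]
include hsq

/-- A flat algebra is finitely presented as soon as both base changes are. -/
theorem algebra_finitePresentation [Algebra.FinitePresentation B (B ⊗[B'] D)]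
    [Algebra.FinitePresentation A' (A' ⊗[B'] D)] [Module.Flat A' (A' ⊗[B'] D)] :
    Algebra.FinitePresentation B' D := by
  classical
  haveI := finiteType hsq D
  obtain ⟨n, π, hπ⟩ := Algebra.FiniteType.iff_quotient_mvPolynomial''.1 ‹Algebra.FiniteType B' D›
  let σ := ULift.{u} (Fin n)
  let g : σ → D := fun i => π (MvPolynomial.X i.down)
  have hg : Function.Surjective (MvPolynomial.aeval (R := B') g) := by
    intro d
    obtain ⟨p, rfl⟩ := hπ d
    exact ⟨MvPolynomial.rename ULift.up p, by rw [MvPolynomial.aeval_rename, MvPolynomial.aeval_unique π]; rfl⟩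
  let N := RingHom.ker (MvPolynomial.aeval (R := B') g)
  have hker : ∀ (R : Type u) [CommRing R] [Algebra B' R] [Algebra.FinitePresentation R (R ⊗[B'] D)],
      ∃ s : Finset (MvPolynomial σ B'), ↑s ⊆ (N : Set (MvPolynomial σ B')) ∧
        N.map (MvPolynomial.map (algebraMap B' R)) =
          (Ideal.span (s : Set (MvPolynomial σ B'))).map (MvPolynomial.map (algebraMap B' R)) := by
    intro R _ _ _
    have hsurj : Function.Surjective (MvPolynomial.aeval (R := R) fun i => (1 : R) ⊗ₜ[B'] g i) := by
      intro x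
      induction x using TensorProduct.induction_on with
      | zero => exact ⟨0, map_zero _⟩
      | tmul r d =>
        obtain ⟨p, rfl⟩ := hg d
        refine ⟨r • MvPolynomial.map (algebraMap B' R) p, ?_⟩
        rw [map_smul, MvPolynomial.aeval_map_algebraMap]
        have : MvPolynomial.aeval (fun i => (1 : R) ⊗ₜ[B'] g i) p =
            (Algebra.TensorProduct.includeRight : D →ₐ[B'] R ⊗[B'] D) (MvPolynomial.aeval g p) := by
          rw [← AlgHom.comp_apply, MvPolynomial.comp_aeval]
          rfl
        rw [this]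
        simp [smul_tmul']
      | add a b ha hb =>
        obtain ⟨p, rfl⟩ := ha; obtain ⟨q, rfl⟩ := hb
        exact ⟨p + q, map_add _ _ _⟩
    have hfg := Algebra.FinitePresentation.ker_fG_of_surjective _ hsurj
    replace hfg : (RingHom.ker (MvPolynomial.aeval (R := R) fun i => (1 : R) ⊗ₜ[B'] g i)).FG := hfg
    rw [ker_aeval_baseChange g hg] at hfg
    obtain ⟨t, ht, ht'⟩ := (Submodule.fg_span_iff_fg_span_finset_subset _).1 hfg
    obtain ⟨s, hs, rfl⟩ := Finset.subset_set_image_iff.1 ht
    refine ⟨s, hs, ?_⟩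
    rw [Ideal.map_span, ← Finset.coe_image]
    exact ht'
  obtain ⟨s₁, hs₁, e₁⟩ := hker B
  obtain ⟨s₂, hs₂, e₂⟩ := hker A'
  let L : Ideal (MvPolynomial σ B') := Ideal.span ((s₁ ∪ s₂ : Finset (MvPolynomial σ B')) : Set (MvPolynomial σ B'))
  have hLN : L ≤ N := Ideal.span_le.2 (by rw [Finset.coe_union]; exact Set.union_subset hs₁ hs₂)
  let fB : MvPolynomial σ B' →+* MvPolynomial σ B := MvPolynomial.map (algebraMap B' B)
  let fA : MvPolynomial σ B' →+* MvPolynomial σ A' := MvPolynomial.map (algebraMap B' A')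
  have hfB : Function.Surjective fB := MvPolynomial.map_surjective _ (surjective_fst hsq)
  have heq : ∀ p, fB p = 0 → fA p = 0 → p = 0 := fun p h1 h2 => MvPolynomial.ext _ _ fun m =>
    eq_of_maps_eq hsq
      (by
        have := congrArg (MvPolynomial.coeff m) h1
        simpa [fB, MvPolynomial.coeff_map] using this)
      (by
        have := congrArg (MvPolynomial.coeff m) h2
        simpa [fA, MvPolynomial.coeff_map] using this)
  have hliftI : ∀ z : MvPolynomial σ A', MvPolynomial.map (algebraMap A' A) z = 0 →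
      ∃ ρ, fB ρ = 0 ∧ fA ρ = z := by
    intro z hz
    have : ∀ m, ∃ c : B', algebraMap B' B c = 0 ∧ algebraMap B' A' c = MvPolynomial.coeff m z := fun m => by
      apply exists_lift_ker hsq
      rw [← MvPolynomial.coeff_map, hz, MvPolynomial.coeff_zero]
    choose c hc₁ hc₂ using this
    refine ⟨∑ m ∈ z.support, MvPolynomial.monomial m (c m), ?_, ?_⟩
    · rw [map_sum]
      exact Finset.sum_eq_zero fun m _ => by simp [fB, hc₁]
    · rw [map_sum]
      simp only [fA, MvPolynomial.map_monomial, hc₂]
      exact MvPolynomial.support_sum_monomial_coeff z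
  have hsnd : ∀ k ∈ N.map fA, ∀ z : MvPolynomial σ A', MvPolynomial.map (algebraMap A' A) z = 0 →
      ∃ δ ∈ L, fB δ = 0 ∧ fA δ = z * k := by
    intro k hk
    rw [show N.map fA = (Ideal.span (s₂ : Set (MvPolynomial σ B'))).map fA from e₂, Ideal.map_span] at hk
    refine Submodule.span_induction ?_ ?_ ?_ ?_ hk
    · rintro _ ⟨q, hq, rfl⟩ z hz
      obtain ⟨ρ, h1, h2⟩ := hliftI z hz
      exact ⟨ρ * q, L.mul_mem_left _ (Ideal.subset_span (Finset.mem_union_right _ hq)),
        by rw [map_mul, h1, zero_mul], by rw [map_mul, h2]⟩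
    · exact fun z _ => ⟨0, zero_mem _, map_zero _, by simp⟩
    · intro a b _ _ ha hb z hz
      obtain ⟨δ, m1, h1, h2⟩ := ha z hz
      obtain ⟨δ', m1', h1', h2'⟩ := hb z hz
      exact ⟨δ + δ', add_mem m1 m1', by rw [map_add, h1, h1', add_zero], by rw [map_add, h2, h2', mul_add]⟩
    · intro r a _ ha z hz
      obtain ⟨δ, m1, h1, h2⟩ := ha (z * r) (by rw [map_mul, hz, zero_mul])
      exact ⟨δ, m1, h1, by rw [h2, smul_eq_mul, mul_assoc]⟩
  have key : N ≤ L := by
    intro p hp
    obtain ⟨l, hl, hlp⟩ : ∃ l ∈ L, fB l = fB p := by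
      have h1 : fB p ∈ N.map fB := Ideal.mem_map_of_mem _ hp
      rw [show N.map fB = (Ideal.span (s₁ : Set (MvPolynomial σ B'))).map fB from e₁,
        Ideal.mem_map_iff_of_surjective _ hfB] at h1
      obtain ⟨l, hl, e⟩ := h1
      exact ⟨l, Ideal.span_mono (Finset.coe_subset.2 Finset.subset_union_left) hl, e⟩
    have hd : p - l ∈ N := sub_mem hp (hLN hl)
    have hd0 : fB (p - l) = 0 := by rw [map_sub, hlp, sub_self]
    let K : Submodule A' (MvPolynomial σ A') := (N.map fA).restrictScalars A'
    haveI : Module.Flat A' (MvPolynomial σ A' ⧸ K) := by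
      have hk := ker_aeval_baseChange (R := A') g hg
      let E := MvPolynomial.aeval (R := A') fun i => (1 : A') ⊗ₜ[B'] g i
      have hK : K = LinearMap.ker E.toLinearMap := Submodule.ext fun x => by
        change x ∈ N.map fA ↔ x ∈ RingHom.ker E
        rw [hk]
      have hE : Function.Surjective E := by
        intro x
        induction x using TensorProduct.induction_on with
        | zero => exact ⟨0, map_zero _⟩
        | tmul r d =>
          obtain ⟨q, rfl⟩ := hg d
          refine ⟨r • fA q, ?_⟩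
          rw [map_smul, MvPolynomial.aeval_map_algebraMap]
          have : MvPolynomial.aeval (fun i => (1 : A') ⊗ₜ[B'] g i) q =
              (Algebra.TensorProduct.includeRight : D →ₐ[B'] A' ⊗[B'] D) (MvPolynomial.aeval g q) := by
            rw [← AlgHom.comp_apply, MvPolynomial.comp_aeval]
            rfl
          rw [this]
          simp [smul_tmul']
        | add a b ha hb =>
          obtain ⟨p, rfl⟩ := ha; obtain ⟨q, rfl⟩ := hb
          exact ⟨p + q, map_add _ _ _⟩
      exact Module.Flat.of_linearEquiv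
        ((Submodule.quotEquivOfEq _ _ hK).trans (E.toLinearMap.quotKerEquivOfSurjective hE))
    let I : Ideal A' := RingHom.ker (algebraMap A' A)
    have hmem : fA (p - l) ∈ I • (⊤ : Submodule A' (MvPolynomial σ A')) := by
      rw [← MvPolynomial.support_sum_monomial_coeff (fA (p - l))]
      refine Submodule.sum_mem _ fun m _ => ?_
      rw [show MvPolynomial.monomial m (MvPolynomial.coeff m (fA (p - l))) =
        MvPolynomial.coeff m (fA (p - l)) • MvPolynomial.monomial m (1 : A') by
          rw [MvPolynomial.smul_monomial, smul_eq_mul, mul_one]]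
      refine Submodule.smul_mem_smul (RingHom.mem_ker.2 ?_) trivial
      simp only [fA, MvPolynomial.coeff_map]
      rw [← IsScalarTower.algebraMap_apply, IsScalarTower.algebraMap_apply B' B A]
      have h0 : MvPolynomial.coeff m (fB (p - l)) = 0 := by rw [hd0, MvPolynomial.coeff_zero]
      rw [MvPolynomial.coeff_map] at h0
      rw [h0, map_zero]
    have hmem' := mem_smul_of_flat_quotient I K hmem (Ideal.mem_map_of_mem _ hd)
    obtain ⟨δ, hδ, h1, h2⟩ : ∃ δ ∈ L, fB δ = 0 ∧ fA δ = fA (p - l) := by
      refine Submodule.smul_induction_on hmem' (fun i hi k hk => ?_) ?_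
      · obtain ⟨δ, hδ, h1, h2⟩ := hsnd k hk (MvPolynomial.C i) (by
          rw [MvPolynomial.map_C, RingHom.mem_ker.1 hi, MvPolynomial.C_0])
        exact ⟨δ, hδ, h1, by rw [h2, MvPolynomial.smul_eq_C_mul]⟩
      · rintro a b ⟨δ, m1, h1, h2⟩ ⟨δ', m1', h1', h2'⟩
        exact ⟨δ + δ', add_mem m1 m1', by rw [map_add, h1, h1', add_zero], by rw [map_add, h2, h2']⟩
    have : p - l - δ = 0 := heq _ (by rw [map_sub, hd0, h1, sub_self]) (by rw [map_sub fA _ δ, h2, sub_self])
    rw [show p = l + δ by linear_combination this]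
    exact add_mem hl hδ
  exact Algebra.FinitePresentation.of_surjective (f := MvPolynomial.aeval (R := B') g) hg
    ⟨s₁ ∪ s₂, le_antisymm hLN key⟩

attribute [local instance] Algebra.TensorProduct.rightAlgebra in
/-- An algebra is formally unramified as soon as both base changes are. -/
theorem formallyUnramified [Algebra.FormallyUnramified B (B ⊗[B'] D)]
    [Algebra.FormallyUnramified A' (A' ⊗[B'] D)] : Algebra.FormallyUnramified B' D := by
  haveI : Subsingleton (B ⊗[B'] Ω[D⁄B']) :=
    (KaehlerDifferential.tensorKaehlerEquivBase B' B D (B ⊗[B'] D)).toEquiv.subsingleton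
  haveI : Subsingleton (A' ⊗[B'] Ω[D⁄B']) :=
    (KaehlerDifferential.tensorKaehlerEquivBase B' A' D (A' ⊗[B'] D)).toEquiv.subsingleton
  exact ⟨subsingleton hsq (L := Ω[D⁄B'])⟩

/-- An algebra is etale as soon as both base changes are. -/
theorem etale [Algebra.Etale B (B ⊗[B'] D)] [Algebra.Etale A' (A' ⊗[B'] D)] : Algebra.Etale B' D := by
  haveI := algebra_finitePresentation hsq D
  haveI := flat D hsq
  haveI := formallyUnramified hsq D
  exact Algebra.Etale.of_formallyUnramified_of_flat

/-- An algebra is smooth as soon as both base changes are. -/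
theorem smooth [Algebra.Smooth B (B ⊗[B'] D)] [Algebra.Smooth A' (A' ⊗[B'] D)] : Algebra.Smooth B' D := by
  haveI := algebra_finitePresentation hsq D
  haveI := flat D hsq
  let C : Groth.Agent.FerrandPush.Cart B' B A' A :=
    { fst := algebraMap B' B
      snd := algebraMap B' A'
      p := algebraMap A' A
      q := algebraMap B A
      surj := hsq.1
      w := fun c => by rw [← IsScalarTower.algebraMap_apply, ← IsScalarTower.algebraMap_apply]
      ext' := fun x y h1 h2 => eq_of_maps_eq hsq h1 h2
      lift' := fun b a h => (hsq.2 b a h).exists }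
  refine Algebra.Smooth.of_formallySmooth_fiber fun p _ => ?_
  have key : ∀ (R : Type u) [CommRing R] [Algebra B' R] [Algebra.Smooth R (R ⊗[B'] D)] (q : PrimeSpectrum R),
      p = q.asIdeal.comap (algebraMap B' R) → Algebra.FormallySmooth p.ResidueField (p.Fiber D) := by
    intro R _ _ _ q hq
    haveI : q.asIdeal.LiesOver p := ⟨hq⟩
    let K := q.asIdeal.ResidueField
    let κ := Ideal.ResidueField.mapₐ p q.asIdeal (Algebra.ofId B' R) hq
    letI : Algebra p.ResidueField K := κ.toRingHom.toAlgebra
    haveI : IsScalarTower B' p.ResidueField K := IsScalarTower.of_algebraMap_eq fun r => (κ.commutes r).symm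
    haveI : Module.FaithfullyFlat p.ResidueField K := inferInstance
    haveI : Algebra.Smooth K (K ⊗[R] (R ⊗[B'] D)) := inferInstance
    let e₁ : K ⊗[R] (R ⊗[B'] D) ≃ₐ[K] K ⊗[B'] D := Algebra.TensorProduct.cancelBaseChange B' R K K D
    let e₂ : K ⊗[p.ResidueField] (p.ResidueField ⊗[B'] D) ≃ₐ[K] K ⊗[B'] D :=
      Algebra.TensorProduct.cancelBaseChange B' p.ResidueField K K D
    haveI : Algebra.FormallySmooth K (K ⊗[p.ResidueField] (p.ResidueField ⊗[B'] D)) :=
      Algebra.FormallySmooth.of_equiv (e₁.trans e₂.symm)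
    exact FSDescent.formallySmooth_of_baseChange p.ResidueField (p.Fiber D) K
  rcases C.exists_prime ⟨p, inferInstance⟩ with ⟨q, hq⟩ | ⟨q, hq⟩
  · exact key B q (congrArg PrimeSpectrum.asIdeal hq).symm
  · exact key A' q (congrArg PrimeSpectrum.asIdeal hq).symm

end

end Groth.Agent.MilnorLib
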