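import Groth.Agent.MilnorLib.Flat

universe u

open TensorProduct

namespace Groth.Agent.MilnorLib

variable {B' B A' A : Type u} [CommRing B'] [CommRing B] [CommRing A'] [CommRing A]
    [Algebra B' B] [Algebra B' A'] [Algebra B A] [Algebra A' A] [Algebra B' A]
    [IsScalarTower B' B A] [IsScalarTower B' A' A]

/-- `x` lies in the image of the kernel of `B' → B` times `L`. -/
lemma mem_ker_smul_of_one_tmul_eq_zero (hs : Function.Surjective (algebraMap B' B))
    {L : Type u} [AddCommGroup L] [Module B' L] {l : L}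
    (h : ((1 : B) ⊗ₜ[B'] l : B ⊗[B'] L) = 0) :
    l ∈ RingHom.ker (algebraMap B' B) • (⊤ : Submodule B' L) := by
  let e : (B' ⧸ RingHom.ker (algebraMap B' B)) ≃ₐ[B'] B :=
    Ideal.quotientKerAlgEquivOfSurjective (f := Algebra.ofId B' B) hs
  have h2 : ((1 : B' ⧸ RingHom.ker (algebraMap B' B)) ⊗ₜ[B'] l : _ ⊗[B'] L) = 0 := by
    apply (LinearEquiv.rTensor L e.toLinearEquiv).injective
    rw [LinearEquiv.rTensor_tmul, map_zero]
    simpa using h
  have h3 : TensorProduct.quotTensorEquivQuotSMul L (RingHom.ker (algebraMap B' B))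
      (Ideal.Quotient.mk _ (1 : B') ⊗ₜ[B'] l) = 0 := by
    rw [show Ideal.Quotient.mk (RingHom.ker (algebraMap B' B)) (1 : B') = 1 from rfl, h2, map_zero]
  rw [TensorProduct.quotTensorEquivQuotSMul_mk_tmul, one_smul, Submodule.Quotient.mk_eq_zero] at h3
  exact h3

lemma smul_one_tmul {R S L : Type u} [CommRing R] [CommRing S] [Algebra R S] [AddCommGroup L]
    [Module R L] (r : R) (l : L) :
    ((1 : S) ⊗ₜ[R] (r • l) : S ⊗[R] L) = algebraMap R S r ⊗ₜ[R] l := by
  rw [← smul_tmul, Algebra.smul_def, mul_one]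

lemma one_tmul_smul_eq_zero {R S L : Type u} [CommRing R] [CommRing S] [Algebra R S] [AddCommGroup L]
    [Module R L] {r : R} (hr : algebraMap R S r = 0) (l : L) :
    ((1 : S) ⊗ₜ[R] (r • l) : S ⊗[R] L) = 0 := by
  rw [smul_one_tmul, hr, zero_tmul]

section
variable (hsq : EtMil.IsFibreSquare B' B A' A)
include hsq

/-- The kernel of `B' → B` kills everything which dies in `A' ⊗ L`. -/
lemma smul_eq_zero_of_one_tmul_eq_zero {L : Type u} [AddCommGroup L] [Module B' L] {l : L}
    (h : ((1 : A') ⊗ₜ[B'] l : A' ⊗[B'] L) = 0) {j : B'} (hj : algebraMap B' B j = 0) :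
    j • l = 0 := by
  have hk : ∀ a : A', ∃ b' : B', algebraMap B' B b' = 0 ∧ algebraMap B' A' b' = a * algebraMap B' A' j := by
    intro a
    apply exists_lift_ker hsq
    rw [map_mul, ← IsScalarTower.algebraMap_apply, IsScalarTower.algebraMap_apply B' B A, hj, map_zero,
      mul_zero]
  choose k hk1 hk2 using hk
  let κ : A' →ₗ[B'] B' :=
    { toFun := k
      map_add' := fun a b => eq_of_maps_eq hsq (by simp [hk1]) (by simp [hk2, add_mul])
      map_smul' := fun c a => eq_of_maps_eq hsq (by simp [hk1])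
        (by simp [hk2, Algebra.smul_def, mul_assoc]) }
  have hκ : κ 1 = j := eq_of_maps_eq hsq (by simp [κ, hk1, hj]) (by simp [κ, hk2])
  have := congrArg (TensorProduct.lid B' L) (congrArg (LinearMap.rTensor L κ) h)
  simpa [hκ] using this

theorem subsingleton {L : Type u} [AddCommGroup L] [Module B' L]
    [Subsingleton (B ⊗[B'] L)] [Subsingleton (A' ⊗[B'] L)] : Subsingleton L := by
  refine ⟨fun a b => ?_⟩
  have hkill : ∀ j : B', algebraMap B' B j = 0 → ∀ l : L, j • l = 0 := fun j hj l =>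
    smul_eq_zero_of_one_tmul_eq_zero hsq (Subsingleton.elim _ _) hj
  have h0 : ∀ l : L, l = 0 := by
    intro l
    have := mem_ker_smul_of_one_tmul_eq_zero (surjective_fst hsq) (l := l) (Subsingleton.elim _ _)
    refine Submodule.smul_induction_on this ?_ ?_
    · intro j hj m _; exact hkill j hj m
    · intro x y hx hy; rw [hx, hy, add_zero]
  rw [h0 a, h0 b]

theorem finite (L : Type u) [AddCommGroup L] [Module B' L]
    [Module.Finite B (B ⊗[B'] L)] [Module.Finite A' (A' ⊗[B'] L)] : Module.Finite B' L := by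
  classical
  obtain ⟨s, hs⟩ := Module.Finite.fg_top (R := B) (M := B ⊗[B'] L)
  obtain ⟨t, ht⟩ := Module.Finite.fg_top (R := A') (M := A' ⊗[B'] L)
  have hB : ∀ x : B ⊗[B'] L, ∃ T : Finset L, x ∈ Submodule.span B ((fun l => (1 : B) ⊗ₜ[B'] l) '' (T : Set L)) := by
    intro x
    induction x using TensorProduct.induction_on with
    | zero => exact ⟨∅, zero_mem _⟩
    | tmul a l =>
      refine ⟨{l}, ?_⟩
      rw [show a ⊗ₜ[B'] l = a • ((1 : B) ⊗ₜ[B'] l) by rw [smul_tmul', smul_eq_mul, mul_one]]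
      exact Submodule.smul_mem _ _ (Submodule.subset_span ⟨l, by simp, rfl⟩)
    | add a b ha hb =>
      obtain ⟨T, hT⟩ := ha; obtain ⟨T', hT'⟩ := hb
      exact ⟨T ∪ T', add_mem (Submodule.span_mono (Set.image_mono (by simp)) hT)
        (Submodule.span_mono (Set.image_mono (by simp)) hT')⟩
  have hA : ∀ x : A' ⊗[B'] L, ∃ T : Finset L, x ∈ Submodule.span A' ((fun l => (1 : A') ⊗ₜ[B'] l) '' (T : Set L)) := by
    intro x
    induction x using TensorProduct.induction_on with
    | zero => exact ⟨∅, zero_mem _⟩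
    | tmul a l =>
      refine ⟨{l}, ?_⟩
      rw [show a ⊗ₜ[B'] l = a • ((1 : A') ⊗ₜ[B'] l) by rw [smul_tmul', smul_eq_mul, mul_one]]
      exact Submodule.smul_mem _ _ (Submodule.subset_span ⟨l, by simp, rfl⟩)
    | add a b ha hb =>
      obtain ⟨T, hT⟩ := ha; obtain ⟨T', hT'⟩ := hb
      exact ⟨T ∪ T', add_mem (Submodule.span_mono (Set.image_mono (by simp)) hT)
        (Submodule.span_mono (Set.image_mono (by simp)) hT')⟩
  choose TB hTB using hB
  choose TA hTA using hA
  let T : Finset L := s.biUnion TB ∪ t.biUnion TA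
  let L0 : Submodule B' L := Submodule.span B' (T : Set L)
  have h1 : Subsingleton (B ⊗[B'] (L ⧸ L0)) := by
    refine ⟨fun a b => ?_⟩
    suffices ∀ x, x = (0 : B ⊗[B'] (L ⧸ L0)) by rw [this a, this b]
    intro x
    obtain ⟨y, rfl⟩ := LinearMap.baseChange_surjective B L0.mkQ_surjective x
    have hy : y ∈ LinearMap.ker (L0.mkQ.baseChange B) := by
      have : y ∈ Submodule.span B (s : Set (B ⊗[B'] L)) := hs ▸ Submodule.mem_top
      refine Submodule.span_le.2 ?_ this
      intro z hz
      refine Submodule.span_le.2 ?_ (hTB z)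
      rintro _ ⟨l, hl, rfl⟩
      rw [SetLike.mem_coe, LinearMap.mem_ker, LinearMap.baseChange_tmul, Submodule.mkQ_apply,
        (Submodule.Quotient.mk_eq_zero L0).2 (Submodule.subset_span (by
          simp only [T, Finset.coe_union, Set.mem_union, Finset.mem_coe, Finset.mem_biUnion]
          exact Or.inl ⟨z, hz, hl⟩)), tmul_zero]
    exact hy
  have h2 : Subsingleton (A' ⊗[B'] (L ⧸ L0)) := by
    refine ⟨fun a b => ?_⟩
    suffices ∀ x, x = (0 : A' ⊗[B'] (L ⧸ L0)) by rw [this a, this b]
    intro x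
    obtain ⟨y, rfl⟩ := LinearMap.baseChange_surjective A' L0.mkQ_surjective x
    have hy : y ∈ LinearMap.ker (L0.mkQ.baseChange A') := by
      have : y ∈ Submodule.span A' (t : Set (A' ⊗[B'] L)) := ht ▸ Submodule.mem_top
      refine Submodule.span_le.2 ?_ this
      intro z hz
      refine Submodule.span_le.2 ?_ (hTA z)
      rintro _ ⟨l, hl, rfl⟩
      rw [SetLike.mem_coe, LinearMap.mem_ker, LinearMap.baseChange_tmul, Submodule.mkQ_apply,
        (Submodule.Quotient.mk_eq_zero L0).2 (Submodule.subset_span (by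
          simp only [T, Finset.coe_union, Set.mem_union, Finset.mem_coe, Finset.mem_biUnion]
          exact Or.inr ⟨z, hz, hl⟩)), tmul_zero]
    exact hy
  have h3 := subsingleton hsq (L := L ⧸ L0)
  refine ⟨⟨T, ?_⟩⟩
  exact Submodule.Quotient.subsingleton_iff.1 h3

theorem finitePresentation (L : Type u) [AddCommGroup L] [Module B' L]
    [Module.Flat B (B ⊗[B'] L)] [Module.FinitePresentation B (B ⊗[B'] L)]
    [Module.Flat A' (A' ⊗[B'] L)] [Module.FinitePresentation A' (A' ⊗[B'] L)] :
    Module.FinitePresentation B' L := by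
  haveI := flat L hsq
  haveI := finite hsq L
  obtain ⟨n, f, hf⟩ := Module.Finite.exists_fin' B' L
  refine Module.finitePresentation_of_surjective f hf ?_
  have hex : Function.Exact (LinearMap.ker f).subtype f := LinearMap.exact_subtype_ker_map f
  have key : ∀ (S : Type u) [CommRing S] [Algebra B' S] [Module.FinitePresentation S (S ⊗[B'] L)],
      Module.Finite S (S ⊗[B'] LinearMap.ker f) := by
    intro S _ _ _
    have hinj : Function.Injective ((LinearMap.ker f).subtype.baseChange S) := by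
      rw [LinearMap.baseChange_eq_ltensor]
      exact LinearMap.lTensor_injective_of_exact_of_flat f hf _ Subtype.val_injective hex S
    have hker : LinearMap.range ((LinearMap.ker f).subtype.baseChange S) = LinearMap.ker (f.baseChange S) := by
      ext x
      rw [LinearMap.mem_ker, LinearMap.baseChange_eq_ltensor]
      exact (lTensor_exact S hex hf x).symm
    have hfg := Module.FinitePresentation.fg_ker (f.baseChange S) (LinearMap.baseChange_surjective S hf)
    rw [← hker] at hfg
    haveI := Module.Finite.iff_fg.2 hfg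
    exact Module.Finite.equiv (LinearEquiv.ofInjective _ hinj).symm
  haveI := key B
  haveI := key A'
  exact Module.Finite.iff_fg.1 (finite hsq (LinearMap.ker f))

theorem isPushout : Algebra.IsPushout B' B A' A := by
  constructor
  let f : A' →ₗ[B'] A := (IsScalarTower.toAlgHom B' A' A).toLinearMap
  have hsurj : Function.Surjective (LinearMap.liftBaseChange B f) := fun a => by
    obtain ⟨a', rfl⟩ := hsq.1 a
    exact ⟨(1 : B) ⊗ₜ a', by simp [f]⟩
  have hone : ∀ x : B ⊗[B'] A', ∃ a : A', (1 : B) ⊗ₜ[B'] a = x := by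
    intro x
    induction x using TensorProduct.induction_on with
    | zero => exact ⟨0, tmul_zero _ _⟩
    | tmul b a =>
      obtain ⟨c, rfl⟩ := surjective_fst hsq b
      exact ⟨c • a, smul_one_tmul c a⟩
    | add a b ha hb =>
      obtain ⟨a, rfl⟩ := ha; obtain ⟨b, rfl⟩ := hb
      exact ⟨a + b, tmul_add _ _ _⟩
  have hinj : Function.Injective (LinearMap.liftBaseChange B f) := by
    rw [injective_iff_map_eq_zero]
    intro x hx
    obtain ⟨a, rfl⟩ := hone x
    simp only [LinearMap.liftBaseChange_tmul, one_smul] at hx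
    obtain ⟨j, hj, rfl⟩ := exists_lift_ker hsq (a' := a) hx
    rw [Algebra.algebraMap_eq_smul_one, one_tmul_smul_eq_zero hj]
  exact IsBaseChange.of_equiv (LinearEquiv.ofBijective _ ⟨hinj, hsurj⟩) fun a => by simp [f]

theorem exists_eq_of_rTensor_eq (L : Type u) [AddCommGroup L] [Module B' L]
    (x : B ⊗[B'] L) (y : A' ⊗[B'] L)
    (hxy : (IsScalarTower.toAlgHom B' B A).toLinearMap.rTensor L x = (IsScalarTower.toAlgHom B' A' A).toLinearMap.rTensor L y) :
    ∃ l : L, (1 : B) ⊗ₜ[B'] l = x ∧ (1 : A') ⊗ₜ[B'] l = y := by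
  obtain ⟨l0, rfl⟩ : ∃ l : L, (1 : B) ⊗ₜ[B'] l = x := TensorProduct.mk_surjective B' L B (surjective_fst hsq) x
  let g := (IsScalarTower.toAlgHom B' A' A).toLinearMap
  let I' := LinearMap.ker g
  have hy0 : g.rTensor L (y - (1 : A') ⊗ₜ[B'] l0) = 0 := by
    rw [map_sub, ← hxy]; simp [g]
  obtain ⟨w, hw⟩ := (rTensor_exact L (LinearMap.exact_subtype_ker_map g) hsq.1 _).1 hy0
  have hw' : ∃ l : L, (1 : B) ⊗ₜ[B'] l = 0 ∧ (1 : A') ⊗ₜ[B'] l = I'.subtype.rTensor L w := by
    clear hw
    induction w using TensorProduct.induction_on with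
    | zero => exact ⟨0, by simp, by simp⟩
    | tmul i m =>
      obtain ⟨j, hj, hji⟩ := exists_lift_ker hsq (a' := (i : A')) i.2
      refine ⟨j • m, one_tmul_smul_eq_zero hj m, ?_⟩
      rw [smul_one_tmul, hji]; rfl
    | add a b ha hb =>
      obtain ⟨la, ha1, ha2⟩ := ha; obtain ⟨lb, hb1, hb2⟩ := hb
      exact ⟨la + lb, by rw [tmul_add, ha1, hb1, add_zero], by rw [tmul_add, ha2, hb2, map_add]⟩
  obtain ⟨l, hl1, hl2⟩ := hw'
  refine ⟨l0 + l, by rw [tmul_add, hl1, add_zero], ?_⟩
  rw [tmul_add, hl2, hw]; abel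

theorem injective_of_flat (L : Type u) [AddCommGroup L] [Module B' L] [Module.Flat B' L] :
    Function.Injective (fun l : L => (((1 : B) ⊗ₜ[B'] l : B ⊗[B'] L), ((1 : A') ⊗ₜ[B'] l : A' ⊗[B'] L))) := by
  let i : B' →ₗ[B'] B × A' := (Algebra.linearMap B' B).prod (Algebra.linearMap B' A')
  have hi : Function.Injective i := fun x y h => by
    simp only [i, LinearMap.prod_apply, Function.prod_apply, Prod.mk.injEq, Algebra.linearMap_apply] at h
    exact eq_of_maps_eq hsq h.1 h.2
  have hi' := Module.Flat.rTensor_preserves_injective_linearMap (M := L) i hi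
  intro a b hab
  simp only [Prod.mk.injEq] at hab
  have h : i.rTensor L ((1 : B') ⊗ₜ[B'] a) = i.rTensor L ((1 : B') ⊗ₜ[B'] b) := by
    apply (TensorProduct.prodLeft B' B' B A' L).injective
    simp [i, hab.1, hab.2]
  have := congrArg (TensorProduct.lid B' L) (hi' h)
  simpa using this

end

end Groth.Agent.MilnorLib
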