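import Mathlib
import Groth.Prelude.Def_EtMil

universe u

open TensorProduct

namespace Groth.Agent.MilnorLib

variable {B' B A' A : Type u} [CommRing B'] [CommRing B] [CommRing A'] [CommRing A]
    [Algebra B' B] [Algebra B' A'] [Algebra B A] [Algebra A' A] [Algebra B' A]
    [IsScalarTower B' B A] [IsScalarTower B' A' A]

lemma surjective_fst (hsq : EtMil.IsFibreSquare B' B A' A) :
    Function.Surjective (algebraMap B' B) := by
  intro b
  obtain ⟨a', ha'⟩ := hsq.1 (algebraMap B A b)
  obtain ⟨b', ⟨hb', -⟩, -⟩ := hsq.2 b a' ha'.symm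
  exact ⟨b', hb'⟩

lemma exists_lift_ker (hsq : EtMil.IsFibreSquare B' B A' A) {a' : A'}
    (ha : algebraMap A' A a' = 0) :
    ∃ b' : B', algebraMap B' B b' = 0 ∧ algebraMap B' A' b' = a' := by
  obtain ⟨b', hb', -⟩ := hsq.2 0 a' (by simp [ha])
  exact ⟨b', hb'⟩

lemma eq_of_maps_eq (hsq : EtMil.IsFibreSquare B' B A' A) {x y : B'}
    (h1 : algebraMap B' B x = algebraMap B' B y) (h2 : algebraMap B' A' x = algebraMap B' A' y) :
    x = y := by
  obtain ⟨b', -, hu⟩ := hsq.2 (algebraMap B' B x) (algebraMap B' A' x)
    (by rw [← IsScalarTower.algebraMap_apply, ← IsScalarTower.algebraMap_apply])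
  exact (hu x ⟨rfl, rfl⟩).trans (hu y ⟨h1.symm, h2.symm⟩).symm

/-- Flatness of `S ⊗ L` preserves injectivity of `S`-linear maps after tensoring over `R`. -/
lemma rTensor_injective_of_flat_baseChange {R S : Type u} [CommRing R] [CommRing S] [Algebra R S]
    (L : Type u) [AddCommGroup L] [Module R L] [Module.Flat S (S ⊗[R] L)]
    {P Q : Type u} [AddCommGroup P] [Module R P] [Module S P] [IsScalarTower R S P]
    [AddCommGroup Q] [Module R Q] [Module S Q] [IsScalarTower R S Q]
    (f : P →ₗ[S] Q) (hf : Function.Injective f) :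
    Function.Injective ((f.restrictScalars R).rTensor L) := by
  have key : ∀ x, (f.restrictScalars R).rTensor L x =
      AlgebraTensorModule.cancelBaseChange R S S Q L
        (f.rTensor (S ⊗[R] L) ((AlgebraTensorModule.cancelBaseChange R S S P L).symm x)) := by
    intro x
    induction x using TensorProduct.induction_on with
    | zero => simp
    | tmul p l => simp
    | add a b ha hb => simp [ha, hb]
  intro a b hab
  rw [key, key] at hab
  exact (AlgebraTensorModule.cancelBaseChange R S S P L).symm.injective
    (Module.Flat.rTensor_preserves_injective_linearMap f hf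
      ((AlgebraTensorModule.cancelBaseChange R S S Q L).injective hab))

/-- For a surjection `R → S` with `S ⊗ L` flat, tensoring with `L` preserves injectivity of maps
between modules killed by the kernel. -/
lemma rTensor_injective_of_killed {R S : Type u} [CommRing R] [CommRing S] [Algebra R S]
    (hs : Function.Surjective (algebraMap R S))
    (L : Type u) [AddCommGroup L] [Module R L] [Module.Flat S (S ⊗[R] L)]
    {P Q : Type u} [AddCommGroup P] [Module R P] [AddCommGroup Q] [Module R Q]
    (hQ : ∀ r : R, algebraMap R S r = 0 → ∀ q : Q, r • q = 0)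
    (f : P →ₗ[R] Q) (hf : Function.Injective f) :
    Function.Injective (f.rTensor L) := by
  have hP : ∀ r : R, algebraMap R S r = 0 → ∀ p : P, r • p = 0 := fun r hr p =>
    hf (by rw [map_smul, hQ r hr, map_zero])
  let e := RingHom.quotientKerEquivOfSurjective hs
  have he : ∀ r : R, e.symm (algebraMap R S r) = Ideal.Quotient.mk _ r := fun r => by
    rw [RingEquiv.symm_apply_eq]; rfl
  letI mP : Module (R ⧸ RingHom.ker (algebraMap R S)) P :=
    Module.IsTorsionBySet.module (M := P) fun p r => hP r.1 r.2 p
  letI mQ : Module (R ⧸ RingHom.ker (algebraMap R S)) Q :=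
    Module.IsTorsionBySet.module (M := Q) fun p r => hQ r.1 r.2 p
  letI : Module S P := Module.compHom P e.symm.toRingHom
  letI : Module S Q := Module.compHom Q e.symm.toRingHom
  haveI : IsScalarTower R S P := IsScalarTower.of_algebraMap_smul fun r p => by
    show e.symm (algebraMap R S r) • p = r • p
    rw [he]; rfl
  haveI : IsScalarTower R S Q := IsScalarTower.of_algebraMap_smul fun r p => by
    show e.symm (algebraMap R S r) • p = r • p
    rw [he]; rfl
  let g : P →ₗ[S] Q := LinearMap.extendScalarsOfSurjective hs f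
  have : g.restrictScalars R = f := rfl
  rw [← this]
  exact rTensor_injective_of_flat_baseChange L g hf

variable (L : Type u) [AddCommGroup L] [Module B' L]
  [Module.Flat B (B ⊗[B'] L)] [Module.Flat A' (A' ⊗[B'] L)]

lemma rTensor_injective_of_le_ker (hsq : EtMil.IsFibreSquare B' B A' A)
    (K : Submodule B' A') (hK : ∀ x ∈ K, algebraMap A' A x = 0) :
    Function.Injective (K.subtype.rTensor L) := by
  let Q' : Ideal A' := Ideal.span (K : Set A')
  let P' : Ideal A' := RingHom.ker (algebraMap A' A) * Q'
  have hKQ : K ≤ Q'.restrictScalars B' := fun x hx => Ideal.subset_span hx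
  have hPK : P'.restrictScalars B' ≤ K := by
    intro x hx
    change x ∈ RingHom.ker (algebraMap A' A) * Ideal.span (K : Set A') at hx
    induction hx using Submodule.mul_induction_on' with
    | mem_mul_mem a ha q hq =>
      induction hq using Submodule.span_induction generalizing a with
      | mem q hq =>
        obtain ⟨b', -, rfl⟩ := exists_lift_ker hsq ha
        rw [← Algebra.smul_def]; exact K.smul_mem _ hq
      | zero => simp
      | add u v _ _ hu hv => rw [mul_add]; exact K.add_mem (hu a ha) (hv a ha)
      | smul c u _ hu =>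
        rw [smul_eq_mul, ← mul_assoc]; exact hu _ (Ideal.mul_mem_right c _ ha)
    | add u _ v _ hu hv => exact K.add_mem hu hv
  let Qm := Q'.restrictScalars B'
  let Pm := P'.restrictScalars B'
  let iKQ : K →ₗ[B'] Qm := Submodule.inclusion hKQ
  let iPK : Pm →ₗ[B'] K := Submodule.inclusion hPK
  -- the quotient `Q/P`
  let PQ : Submodule B' Qm := Pm.comap Qm.subtype
  let π : K →ₗ[B'] Qm ⧸ PQ := PQ.mkQ ∘ₗ iKQ
  let Kb : Submodule B' (Qm ⧸ PQ) := LinearMap.range π
  have hkill : ∀ r : B', algebraMap B' B r = 0 → ∀ q : Qm ⧸ PQ, r • q = 0 := by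
    intro r hr q
    obtain ⟨q, rfl⟩ := Submodule.mkQ_surjective PQ q
    rw [← map_smul, Submodule.mkQ_apply, Submodule.Quotient.mk_eq_zero]
    change r • (q : A') ∈ P'
    rw [Algebra.smul_def]
    refine Ideal.mul_mem_mul ?_ q.2
    rw [RingHom.mem_ker, ← IsScalarTower.algebraMap_apply, IsScalarTower.algebraMap_apply B' B A, hr,
      map_zero]
  have hKb := rTensor_injective_of_killed (surjective_fst hsq) L hkill Kb.subtype
    Kb.injective_subtype
  have hex : Function.Exact iPK π.rangeRestrict := by
    intro x
    constructor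
    · intro hx
      have hx' := congrArg Subtype.val hx
      change π x = 0 at hx'
      have hx'' : iKQ x ∈ PQ := (Submodule.Quotient.mk_eq_zero PQ).1 hx'
      exact ⟨⟨x.1, hx''⟩, rfl⟩
    · rintro ⟨p, rfl⟩
      apply Subtype.ext
      exact (Submodule.Quotient.mk_eq_zero PQ).2 p.2
  have hQinj : Function.Injective (Qm.subtype.rTensor L) :=
    rTensor_injective_of_flat_baseChange (R := B') L (Q'.subtype) Subtype.val_injective
  have hPinj : Function.Injective (Pm.subtype.rTensor L) :=
    rTensor_injective_of_flat_baseChange (R := B') L (P'.subtype) Subtype.val_injective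
  rw [injective_iff_map_eq_zero]
  intro x hx
  have h1 : iKQ.rTensor L x = 0 := by
    apply hQinj
    rw [map_zero]
    rw [show K.subtype = Qm.subtype ∘ₗ iKQ from rfl,
      LinearMap.rTensor_comp_apply] at hx
    exact hx
  have h2 : π.rangeRestrict.rTensor L x = 0 := by
    apply hKb
    rw [map_zero, ← LinearMap.rTensor_comp_apply, LinearMap.subtype_comp_codRestrict]
    show (PQ.mkQ ∘ₗ iKQ).rTensor L x = 0
    rw [LinearMap.rTensor_comp_apply, h1, map_zero]
  obtain ⟨y, rfl⟩ := (rTensor_exact L hex π.surjective_rangeRestrict x).1 h2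
  have h3 : y = 0 := by
    apply hPinj
    rw [map_zero]
    rw [← LinearMap.rTensor_comp_apply] at hx
    exact hx
  rw [h3, map_zero]

theorem flat (hsq : EtMil.IsFibreSquare B' B A' A) : Module.Flat B' L := by
  rw [Module.Flat.iff_rTensor_injective']
  intro J
  let Jm : Submodule B' B' := J
  let J0 : Submodule B' J := LinearMap.ker (Algebra.linearMap B' B ∘ₗ J.subtype)
  let Jb : Submodule B' B := LinearMap.range (Algebra.linearMap B' B ∘ₗ J.subtype)
  let π := (Algebra.linearMap B' B ∘ₗ J.subtype).rangeRestrict
  have hex : Function.Exact J0.subtype π := by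
    intro x
    constructor
    · intro hx
      exact ⟨⟨x, congrArg Subtype.val hx⟩, rfl⟩
    · rintro ⟨p, rfl⟩
      exact Subtype.ext p.2
  have hBkill : ∀ r : B', algebraMap B' B r = 0 → ∀ q : B, r • q = 0 := fun r hr q => by
    rw [Algebra.smul_def, hr, zero_mul]
  have hJb := rTensor_injective_of_killed (surjective_fst hsq) L hBkill Jb.subtype Jb.injective_subtype
  let ψ : J0 →ₗ[B'] A' := Algebra.linearMap B' A' ∘ₗ J.subtype ∘ₗ J0.subtype
  have hψ : Function.Injective ψ := by
    intro a b hab
    have ha : algebraMap B' B (a : J).1 = 0 := a.2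
    have hb : algebraMap B' B (b : J).1 = 0 := b.2
    exact Subtype.ext (Subtype.ext (eq_of_maps_eq hsq (ha.trans hb.symm) hab))
  have hK := rTensor_injective_of_le_ker L hsq (LinearMap.range ψ) (by
    rintro _ ⟨a, rfl⟩
    have ha : algebraMap B' B (a : J).1 = 0 := a.2
    show algebraMap A' A (algebraMap B' A' (a : J).1) = 0
    rw [← IsScalarTower.algebraMap_apply, IsScalarTower.algebraMap_apply B' B A, ha, map_zero])
  rw [injective_iff_map_eq_zero]
  intro x hx
  have h2 : π.rTensor L x = 0 := by
    apply hJb
    rw [map_zero, ← LinearMap.rTensor_comp_apply, LinearMap.subtype_comp_codRestrict,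
      LinearMap.rTensor_comp_apply, hx, map_zero]
  obtain ⟨y, rfl⟩ := (rTensor_exact L hex (LinearMap.surjective_rangeRestrict _) x).1 h2
  have h3 : ψ.rTensor L y = 0 := by
    have : ψ.rTensor L y = (Algebra.linearMap B' A').rTensor L (J.subtype.rTensor L (J0.subtype.rTensor L y)) := by
      rw [← LinearMap.rTensor_comp_apply, ← LinearMap.rTensor_comp_apply]; rfl
    rw [this, hx, map_zero]
  have h4 : (LinearEquiv.ofInjective ψ hψ).toLinearMap.rTensor L y = 0 := by
    apply hK
    rw [map_zero, ← LinearMap.rTensor_comp_apply, ← h3]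
    rfl
  have h5 : y = 0 := (LinearEquiv.rTensor L (LinearEquiv.ofInjective ψ hψ)).injective (by
    rw [map_zero]; exact h4)
  rw [h5, map_zero]

end Groth.Agent.MilnorLib
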