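import Groth.Agent.MilnorLib.Basic

universe u

open TensorProduct

namespace Groth.Agent.MilnorLib

variable {B' B A' A : Type u} [CommRing B'] [CommRing B] [CommRing A'] [CommRing A]
    [Algebra B' B] [Algebra B' A'] [Algebra B A] [Algebra A' A] [Algebra B' A]
    [IsScalarTower B' B A] [IsScalarTower B' A' A]
    {N M' : Type u} [AddCommGroup N] [Module B N] [Module B' N] [IsScalarTower B' B N]
    [AddCommGroup M'] [Module A' M'] [Module B' M'] [IsScalarTower B' A' M']

lemma one_tmul_surjective (hsurj : Function.Surjective (algebraMap A' A)) (x : A ⊗[A'] M') :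
    ∃ m : M', (1 : A) ⊗ₜ[A'] m = x :=
  TensorProduct.mk_surjective A' M' A hsurj x

variable (φ : A ⊗[B] N ≃ₗ[A] A ⊗[A'] M')

lemma mem_glue {x : N × M'} :
    x ∈ EtMil.glue B' φ ↔ φ ((1 : A) ⊗ₜ[B] x.1) = (1 : A) ⊗ₜ[A'] x.2 := Iff.rfl

lemma exists_mem_glue_fst (hsurj : Function.Surjective (algebraMap A' A)) (n : N) :
    ∃ m : M', (n, m) ∈ EtMil.glue B' φ := by
  obtain ⟨m, hm⟩ := one_tmul_surjective hsurj (φ ((1 : A) ⊗ₜ[B] n))
  exact ⟨m, hm.symm⟩

/-- Every element of `M'` is, up to `I M'`, a combination of second components of glued elements. -/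
lemma exists_sub_mem_ker_smul (hsurj : Function.Surjective (algebraMap A' A)) (m : M') :
    ∃ v ∈ Submodule.span A' (Set.range (EtMil.glueSnd B' φ)),
      m - v ∈ RingHom.ker (algebraMap A' A) • (⊤ : Submodule A' M') := by
  suffices ∀ z : A ⊗[B] N, ∃ v ∈ Submodule.span A' (Set.range (EtMil.glueSnd B' φ)),
      (1 : A) ⊗ₜ[A'] v = φ z by
    obtain ⟨v, hv, hv'⟩ := this (φ.symm ((1 : A) ⊗ₜ[A'] m))
    refine ⟨v, hv, mem_ker_smul_of_one_tmul_eq_zero hsurj ?_⟩
    rw [LinearEquiv.apply_symm_apply] at hv'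
    rw [tmul_sub, hv', sub_self]
  intro z
  induction z using TensorProduct.induction_on with
  | zero => exact ⟨0, zero_mem _, by simp⟩
  | tmul a n =>
    obtain ⟨a', rfl⟩ := hsurj a
    obtain ⟨m, hm⟩ := exists_mem_glue_fst (B' := B') φ hsurj n
    refine ⟨a' • m, Submodule.smul_mem _ _ (Submodule.subset_span ⟨⟨(n, m), hm⟩, rfl⟩), ?_⟩
    rw [show algebraMap A' A a' ⊗ₜ[B] n = algebraMap A' A a' • ((1 : A) ⊗ₜ[B] n) by
      rw [smul_tmul', smul_eq_mul, mul_one], map_smul, (mem_glue φ).1 hm, smul_tmul', smul_eq_mul,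
      mul_one, smul_one_tmul]
  | add a b ha hb =>
    obtain ⟨va, ha1, ha2⟩ := ha; obtain ⟨vb, hb1, hb2⟩ := hb
    exact ⟨va + vb, add_mem ha1 hb1, by rw [tmul_add, map_add, ha2, hb2]⟩

lemma zero_mem_glue_of_mem_ker_smul {m : M'}
    (hm : m ∈ RingHom.ker (algebraMap A' A) • (⊤ : Submodule A' M')) :
    ((0, m) : N × M') ∈ EtMil.glue B' φ := by
  rw [mem_glue, tmul_zero, map_zero]
  symm
  refine Submodule.smul_induction_on hm ?_ ?_
  · intro i hi x _; exact one_tmul_smul_eq_zero hi x
  · intro x y hx hy; rw [tmul_add, hx, hy, add_zero]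

lemma span_glueSnd (hsurj : Function.Surjective (algebraMap A' A)) :
    Submodule.span A' (Set.range (EtMil.glueSnd B' φ)) = ⊤ := by
  rw [eq_top_iff]
  intro m _
  obtain ⟨v, hv, hv'⟩ := exists_sub_mem_ker_smul (B' := B') φ hsurj m
  have : m - v ∈ Submodule.span A' (Set.range (EtMil.glueSnd B' φ)) :=
    Submodule.subset_span ⟨⟨_, zero_mem_glue_of_mem_ker_smul φ hv'⟩, rfl⟩
  simpa using add_mem this hv

variable (hsurj : Function.Surjective (algebraMap A' A))
  (hlift : ∀ a' : A', algebraMap A' A a' = 0 → ∃ b' : B', algebraMap B' B b' = 0 ∧ algebraMap B' A' b' = a')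
include hsurj hlift

/-- An element of the glueing with first component in the image of `J` is in `J • glue`. -/
lemma zero_mem_span_smul {S : Set (EtMil.glue B' φ)}
    (hS : Submodule.span A' (EtMil.glueSnd B' φ '' S) = ⊤) {m : M'}
    (hm : m ∈ RingHom.ker (algebraMap A' A) • (⊤ : Submodule A' M')) :
    ∃ g ∈ RingHom.ker (algebraMap B' B) • Submodule.span B' S, (g : N × M') = (0, m) := by
  refine Submodule.smul_induction_on hm ?_ ?_
  · intro i hi x hx0
    clear hx0
    have hx : x ∈ Submodule.span A' (EtMil.glueSnd B' φ '' S) := hS ▸ Submodule.mem_top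
    induction hx using Submodule.span_induction generalizing i with
    | mem x hx =>
      obtain ⟨g, hg, rfl⟩ := hx
      obtain ⟨j, hj, rfl⟩ := hlift i hi
      refine ⟨j • g, Submodule.smul_mem_smul hj (Submodule.subset_span hg), ?_⟩
      apply Prod.ext
      · show j • (g : N × M').1 = 0
        rw [← IsScalarTower.algebraMap_smul B j, hj, zero_smul]
      · show j • (g : N × M').2 = _
        rw [← IsScalarTower.algebraMap_smul A' j]; rfl
    | zero => exact ⟨0, zero_mem _, by simp [Prod.mk_zero_zero]⟩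
    | add u v _ _ hu hv =>
      obtain ⟨gu, hgu, hu'⟩ := hu i hi; obtain ⟨gv, hgv, hv'⟩ := hv i hi
      exact ⟨gu + gv, add_mem hgu hgv, by simp [hu', hv', smul_add]⟩
    | smul c u _ hu =>
      obtain ⟨g, hg, hg'⟩ := hu (i * c) (Ideal.mul_mem_right c _ hi)
      exact ⟨g, hg, by rw [hg', mul_smul]⟩
  · rintro x y ⟨gx, hgx, hx⟩ ⟨gy, hgy, hy⟩
    exact ⟨gx + gy, add_mem hgx hgy, by simp [hx, hy]⟩

lemma mem_ker_smul_of_fst_eq_zero (g : EtMil.glue B' φ) (hg : (g : N × M').1 = 0) :
    g ∈ RingHom.ker (algebraMap B' B) • (⊤ : Submodule B' (EtMil.glue B' φ)) := by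
  have h := (mem_glue φ).1 g.2
  rw [hg, tmul_zero, map_zero] at h
  obtain ⟨g', hg', he⟩ := zero_mem_span_smul φ hsurj hlift (S := Set.univ)
    (by rw [Set.image_univ]; exact span_glueSnd φ hsurj)
    (mem_ker_smul_of_one_tmul_eq_zero hsurj h.symm)
  rw [Submodule.span_univ] at hg'
  have : g' = g := Subtype.ext (he.trans (Prod.ext hg.symm rfl))
  exact this ▸ hg'

/-- The glued module of finite modules is finite. -/
theorem glue_finite (hB : Function.Surjective (algebraMap B' B))
    [Module.Finite B N] [Module.Finite A' M'] : Module.Finite B' (EtMil.glue B' φ) := by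
  classical
  obtain ⟨s, hs⟩ := Module.Finite.fg_top (R := B) (M := N)
  choose mm hmm using fun n : N => exists_mem_glue_fst (B' := B') φ hsurj n
  obtain ⟨t, ht, hts⟩ := (Submodule.fg_span_iff_fg_span_finset_subset
    (R := A') (Set.range (EtMil.glueSnd B' φ))).1 (by rw [span_glueSnd φ hsurj]; exact Module.Finite.fg_top)
  rw [span_glueSnd φ hsurj] at hts
  choose gg hgg using fun m : t => ht m.2
  let S0 : Finset (EtMil.glue B' φ) :=
    s.image (fun n => (⟨(n, mm n), hmm n⟩ : EtMil.glue B' φ)) ∪ t.attach.image gg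
  have hS : Submodule.span A' (EtMil.glueSnd B' φ '' (S0 : Set (EtMil.glue B' φ))) = ⊤ := by
    rw [eq_top_iff, hts]
    refine Submodule.span_mono fun m hm => ?_
    exact ⟨gg ⟨m, hm⟩, by simp [S0], hgg ⟨m, hm⟩⟩
  refine ⟨⟨S0, ?_⟩⟩
  rw [eq_top_iff]
  intro g _
  have : (g : N × M').1 ∈ Submodule.map (EtMil.glueFst B' φ) (Submodule.span B' (S0 : Set _)) := by
    have h1 : (g : N × M').1 ∈ Submodule.span B (s : Set N) := hs ▸ Submodule.mem_top
    have h2 : (g : N × M').1 ∈ Submodule.span B' (s : Set N) := by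
      rw [← Submodule.restrictScalars_span B' B hB (s : Set N)]; exact h1
    rw [Submodule.map_span]
    refine Submodule.span_mono (fun n hn => ?_) h2
    exact ⟨⟨(n, mm n), hmm n⟩, Finset.mem_union_left _ (Finset.mem_image_of_mem _ hn), rfl⟩
  obtain ⟨g1, hg1, hg1'⟩ := this
  have h0 : ((g - g1 : EtMil.glue B' φ) : N × M').1 = 0 := by
    show (g : N × M').1 - (g1 : N × M').1 = 0
    rw [← hg1']; exact sub_self _
  have h := (mem_glue φ).1 (g - g1).2
  rw [h0, tmul_zero, map_zero] at h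
  obtain ⟨g', hg', he⟩ := zero_mem_span_smul φ hsurj hlift hS
    (mem_ker_smul_of_one_tmul_eq_zero hsurj h.symm)
  have h' : g - g1 = g' := Subtype.ext ((Prod.ext h0 rfl : ((g - g1 : EtMil.glue B' φ) : N × M') = (0, _)).trans he.symm)
  have : g - g1 ∈ Submodule.span B' (S0 : Set (EtMil.glue B' φ)) := by
    rw [h']; exact Submodule.smul_le_right hg'
  simpa using add_mem this hg1

/-- Morphisms of glueing data surjective on both components are surjective on glueings. -/
theorem glue_surjective {N₂ M₂' : Type u} [AddCommGroup N₂] [Module B N₂] [Module B' N₂] [IsScalarTower B' B N₂]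
    [AddCommGroup M₂'] [Module A' M₂'] [Module B' M₂'] [IsScalarTower B' A' M₂']
    (φ₂ : A ⊗[B] N₂ ≃ₗ[A] A ⊗[A'] M₂') (u : N →ₗ[B] N₂) (v : M' →ₗ[A'] M₂')
    (hc : (v.baseChange A).comp φ.toLinearMap = φ₂.toLinearMap.comp (u.baseChange A))
    (hu : Function.Surjective u) (hv : Function.Surjective v) (y : N₂ × M₂') (hy : y ∈ EtMil.glue B' φ₂) :
    ∃ x : N × M', x ∈ EtMil.glue B' φ ∧ u x.1 = y.1 ∧ v x.2 = y.2 := by
  obtain ⟨n, hn⟩ := hu y.1
  obtain ⟨m, hm⟩ := exists_mem_glue_fst (B' := B') φ hsurj n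
  have h1 : (1 : A) ⊗ₜ[A'] (y.2 - v m) = 0 := by
    have := congrArg (fun f => f ((1 : A) ⊗ₜ[B] n)) hc
    simp only [LinearMap.coe_comp, Function.comp_apply, LinearEquiv.coe_coe, LinearMap.baseChange_tmul] at this
    rw [(mem_glue φ).1 hm, LinearMap.baseChange_tmul, hn, (mem_glue φ₂).1 hy] at this
    rw [tmul_sub, this, sub_self]
  have h2 : y.2 - v m ∈ Submodule.map v (RingHom.ker (algebraMap A' A) • (⊤ : Submodule A' M')) := by
    rw [Submodule.map_smul'', Submodule.map_top, LinearMap.range_eq_top.2 hv]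
    exact mem_ker_smul_of_one_tmul_eq_zero hsurj h1
  obtain ⟨m0, hm0, hm0'⟩ := h2
  refine ⟨(n, m + m0), ?_, hn, by rw [map_add, hm0']; abel⟩
  have := add_mem (show ((n, m) : N × M') ∈ EtMil.glue B' φ from hm) (zero_mem_glue_of_mem_ker_smul φ hm0)
  simpa using this

omit hlift in
lemma glueFst_surjective : Function.Surjective (EtMil.glueFst B' φ) := fun n => by
  obtain ⟨m, hm⟩ := exists_mem_glue_fst (B' := B') φ hsurj n
  exact ⟨⟨(n, m), hm⟩, rfl⟩

theorem liftBaseChange_glueFst_bijective (hB : Function.Surjective (algebraMap B' B)) :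
    Function.Bijective (LinearMap.liftBaseChange B (EtMil.glueFst B' φ)) := by
  constructor
  · rw [injective_iff_map_eq_zero]
    intro x hx
    obtain ⟨g, rfl⟩ := TensorProduct.mk_surjective B' (EtMil.glue B' φ) B hB x
    rw [TensorProduct.mk_apply, LinearMap.liftBaseChange_tmul, one_smul] at hx
    have := mem_ker_smul_of_fst_eq_zero φ hsurj hlift g hx
    rw [TensorProduct.mk_apply]
    refine Submodule.smul_induction_on this ?_ ?_
    · intro j hj x _; exact one_tmul_smul_eq_zero hj x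
    · intro a b ha hb; rw [tmul_add, ha, hb, add_zero]
  · intro n
    obtain ⟨g, hg⟩ := glueFst_surjective (B' := B') φ hsurj n
    exact ⟨(1 : B) ⊗ₜ g, by simp [hg]⟩

theorem liftBaseChange_glueSnd_bijective (hB : Function.Surjective (algebraMap B' B)) :
    Function.Bijective (LinearMap.liftBaseChange A' (EtMil.glueSnd B' φ)) := by
  constructor
  · rw [injective_iff_map_eq_zero]
    intro x hx
    let g : A' →ₗ[B'] A := (IsScalarTower.toAlgHom B' A' A).toLinearMap
    let e : A ⊗[B'] (EtMil.glue B' φ) ≃ₗ[A] A ⊗[A'] M' :=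
      (AlgebraTensorModule.cancelBaseChange B' B A A (EtMil.glue B' φ)).symm ≪≫ₗ
      (AlgebraTensorModule.congr (LinearEquiv.refl A A)
        (LinearEquiv.ofBijective _ (liftBaseChange_glueFst_bijective φ hsurj hlift hB))) ≪≫ₗ φ
    have he : ∀ z : A' ⊗[B'] (EtMil.glue B' φ), e (g.rTensor _ z) =
        (1 : A) ⊗ₜ[A'] LinearMap.liftBaseChange A' (EtMil.glueSnd B' φ) z := by
      intro z
      induction z using TensorProduct.induction_on with
      | zero => simp
      | tmul a y =>
        have hy : φ ((1 : A) ⊗ₜ[B] (EtMil.glueFst B' φ y)) = (1 : A) ⊗ₜ[A'] (EtMil.glueSnd B' φ y) := y.2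
        simp only [e, g, LinearMap.rTensor_tmul, AlgHom.toLinearMap_apply, IsScalarTower.toAlgHom_apply,
          LinearEquiv.trans_apply, AlgebraTensorModule.cancelBaseChange_symm_tmul,
          AlgebraTensorModule.congr_tmul, LinearEquiv.refl_apply, LinearEquiv.ofBijective_apply,
          LinearMap.liftBaseChange_tmul, one_smul]
        rw [show algebraMap A' A a ⊗ₜ[B] EtMil.glueFst B' φ y =
          algebraMap A' A a • ((1 : A) ⊗ₜ[B] EtMil.glueFst B' φ y) by rw [smul_tmul', smul_eq_mul, mul_one],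
          map_smul, hy, smul_tmul', smul_eq_mul, mul_one, smul_one_tmul]
      | add a b ha hb => simp only [map_add, tmul_add, ha, hb]
    have h0 : g.rTensor _ x = 0 := e.injective (by rw [he, hx, tmul_zero, map_zero])
    obtain ⟨w, rfl⟩ := (rTensor_exact _ (LinearMap.exact_subtype_ker_map g) hsurj _).1 h0
    have hw : ∃ y : EtMil.glue B' φ, (y : N × M').1 = 0 ∧
        (1 : A') ⊗ₜ[B'] y = (LinearMap.ker g).subtype.rTensor _ w := by
      clear hx he h0
      induction w using TensorProduct.induction_on with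
      | zero => exact ⟨0, rfl, by simp⟩
      | tmul i m =>
        obtain ⟨j, hj, hji⟩ := hlift (i : A') i.2
        refine ⟨j • m, ?_, ?_⟩
        · show j • (m : N × M').1 = 0
          rw [← IsScalarTower.algebraMap_smul B j, hj, zero_smul]
        · rw [smul_one_tmul, hji]; rfl
      | add a b ha hb =>
        obtain ⟨la, ha1, ha2⟩ := ha; obtain ⟨lb, hb1, hb2⟩ := hb
        exact ⟨la + lb, by simp [ha1, hb1], by rw [tmul_add, ha2, hb2, map_add]⟩
    obtain ⟨y, hy1, hy2⟩ := hw
    rw [← hy2, LinearMap.liftBaseChange_tmul, one_smul] at hx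
    have : y = 0 := Subtype.ext (Prod.ext hy1 hx)
    rw [← hy2, this, tmul_zero]
  · intro m
    have hm : m ∈ Submodule.span A' (Set.range (EtMil.glueSnd B' φ)) := span_glueSnd (B' := B') φ hsurj ▸ Submodule.mem_top
    induction hm using Submodule.span_induction with
    | mem m hm => obtain ⟨y, rfl⟩ := hm; exact ⟨(1 : A') ⊗ₜ y, by simp⟩
    | zero => exact ⟨0, map_zero _⟩
    | add u v _ _ hu hv =>
      obtain ⟨a, rfl⟩ := hu; obtain ⟨b, rfl⟩ := hv; exact ⟨a + b, map_add _ _ _⟩
    | smul c u _ hu => obtain ⟨a, rfl⟩ := hu; exact ⟨c • a, map_smul _ _ _⟩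

end Groth.Agent.MilnorLib
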