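import Groth.Agent.MilnorLib.Glue
import Mathlib

set_option autoImplicit false
set_option backward.isDefEq.respectTransparency false
universe u

open TensorProduct

attribute [local instance] Algebra.TensorProduct.rightAlgebra

namespace Groth.Agent.MilnorLib

variable {B' B A' A : Type u} [CommRing B'] [CommRing B] [CommRing A'] [CommRing A]
    [Algebra B' B] [Algebra B' A'] [Algebra B A] [Algebra A' A] [Algebra B' A]
    [IsScalarTower B' B A] [IsScalarTower B' A' A]

/-- In a base change of a fibre square, the maps have the properties needed for glueing. -/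
theorem pushout_maps (hsq : EtMil.IsFibreSquare B' B A' A)
    (D' D C' C : Type u) [CommRing D'] [CommRing D] [CommRing C'] [CommRing C]
    [Algebra B' D'] [Algebra B D] [Algebra A' C'] [Algebra A C]
    [Algebra D' D] [Algebra B' D] [IsScalarTower B' B D] [IsScalarTower B' D' D] [Algebra.IsPushout B' B D' D]
    [Algebra D' C'] [Algebra B' C'] [IsScalarTower B' A' C'] [IsScalarTower B' D' C'] [Algebra.IsPushout B' A' D' C']
    [Algebra D' C] [Algebra B' C] [IsScalarTower B' A C] [IsScalarTower B' D' C] [Algebra.IsPushout B' A D' C]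
    [Algebra C' C] [IsScalarTower D' C' C] [Algebra A' C] [IsScalarTower A' A C] [IsScalarTower A' C' C] :
    Function.Surjective (algebraMap C' C) ∧
      (∀ c : C', algebraMap C' C c = 0 → ∃ d : D', algebraMap D' D d = 0 ∧ algebraMap D' C' d = c) ∧
      Function.Surjective (algebraMap D' D) := by
  have hD : Function.Surjective (algebraMap D' D) := by
    intro c
    obtain ⟨z, rfl⟩ := (Algebra.IsPushout.out (R := B') (S := B) (R' := D') (S' := D)).equiv.surjective c
    induction z using TensorProduct.induction_on with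
    | zero => exact ⟨0, by simp⟩
    | tmul a d =>
      obtain ⟨a', rfl⟩ := Groth.Agent.MilnorLib.surjective_fst hsq a
      refine ⟨algebraMap B' D' a' * d, ?_⟩
      rw [IsBaseChange.equiv_tmul, Algebra.smul_def, map_mul, ← IsScalarTower.algebraMap_apply B' D' D,
        ← IsScalarTower.algebraMap_apply B' B D]
      rfl
    | add x y hx hy =>
      obtain ⟨p, hp⟩ := hx
      obtain ⟨q, hq⟩ := hy
      exact ⟨p + q, by rw [map_add, hp, hq, map_add]⟩
  let g : A' →ₗ[B'] A := (IsScalarTower.toAlgHom B' A' A).toLinearMap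
  let eC' := (Algebra.IsPushout.out (R := B') (S := A') (R' := D') (S' := C')).equiv
  let eC := (Algebra.IsPushout.out (R := B') (S := A) (R' := D') (S' := C)).equiv
  have hcomm : ∀ z : A' ⊗[B'] D', algebraMap C' C (eC' z) = eC (g.rTensor D' z) := by
    intro z
    induction z using TensorProduct.induction_on with
    | zero => simp
    | tmul a d =>
      simp only [g, eC, eC', LinearMap.rTensor_tmul, IsBaseChange.equiv_tmul, Algebra.smul_def, map_mul,
        IsScalarTower.toAlgHom_apply, AlgHom.toLinearMap_apply]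
      rw [← IsScalarTower.algebraMap_apply A' C' C, IsScalarTower.algebraMap_apply A' A C,
        ← IsScalarTower.algebraMap_apply D' C' C]
    | add a b ha hb => simp only [map_add, ha, hb]
  have hDC : Function.Surjective (algebraMap C' C) := by
    intro c
    obtain ⟨z, hz⟩ := LinearMap.rTensor_surjective D' (g := g) hsq.1 (eC.symm c)
    exact ⟨eC' z, by rw [hcomm, hz, LinearEquiv.apply_symm_apply]⟩
  have hlift : ∀ c : C', algebraMap C' C c = 0 → ∃ d : D', algebraMap D' D d = 0 ∧ algebraMap D' C' d = c := by
    intro c hc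
    have h0 : g.rTensor D' (eC'.symm c) = 0 := eC.injective (by
      rw [← hcomm, LinearEquiv.apply_symm_apply, hc, map_zero])
    obtain ⟨w, hw⟩ := (rTensor_exact D' (LinearMap.exact_subtype_ker_map g) hsq.1 _).1 h0
    have : ∃ d : D', algebraMap D' D d = 0 ∧ algebraMap D' C' d = eC' ((LinearMap.ker g).subtype.rTensor D' w) := by
      clear hw
      induction w using TensorProduct.induction_on with
      | zero => exact ⟨0, map_zero _, by simp⟩
      | tmul i d =>
        obtain ⟨j, hj, hji⟩ := Groth.Agent.MilnorLib.exists_lift_ker hsq (a' := (i : A')) i.2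
        refine ⟨algebraMap B' D' j * d, ?_, ?_⟩
        · rw [map_mul, ← IsScalarTower.algebraMap_apply B' D' D, IsScalarTower.algebraMap_apply B' B D, hj,
            map_zero, zero_mul]
        · simp only [eC', LinearMap.rTensor_tmul, Submodule.coe_subtype, IsBaseChange.equiv_tmul, ← hji,
            Algebra.smul_def, map_mul, ← IsScalarTower.algebraMap_apply, IsScalarTower.toAlgHom_apply,
            AlgHom.toLinearMap_apply]
      | add a b ha hb =>
        obtain ⟨p, hp, hp'⟩ := ha
        obtain ⟨q, hq, hq'⟩ := hb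
        exact ⟨p + q, by rw [map_add, hp, hq, add_zero], by rw [map_add, hp', hq', map_add, map_add]⟩
    rwa [hw, LinearEquiv.apply_symm_apply] at this
  exact ⟨hDC, hlift, hD⟩

/-- Finite presentation of a module over a flat algebra over a fibre square, for modules flat over the
base ring. -/
theorem finitePresentation_rel (hsq : EtMil.IsFibreSquare B' B A' A)
    (R : Type u) [CommRing R] [Algebra B' R] [Module.Flat B' R]
    (P : Type u) [AddCommGroup P] [Module R P] [Module B' P] [IsScalarTower B' R P]
    [Module.Flat B' P] [Module.Finite R P]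
    [Module.FinitePresentation (B ⊗[B'] R) ((B ⊗[B'] R) ⊗[R] P)]
    [Module.FinitePresentation (A' ⊗[B'] R) ((A' ⊗[B'] R) ⊗[R] P)] :
    Module.FinitePresentation R P := by
  letI : Algebra (B ⊗[B'] R) (A ⊗[B'] R) :=
    (Algebra.TensorProduct.map (IsScalarTower.toAlgHom B' B A) (AlgHom.id B' R)).toAlgebra
  letI : Algebra (A' ⊗[B'] R) (A ⊗[B'] R) :=
    (Algebra.TensorProduct.map (IsScalarTower.toAlgHom B' A' A) (AlgHom.id B' R)).toAlgebra
  haveI : IsScalarTower R (B ⊗[B'] R) (A ⊗[B'] R) := IsScalarTower.of_algebraMap_eq fun r => by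
    simp [RingHom.algebraMap_toAlgebra, Algebra.TensorProduct.right_algebraMap_apply]
  haveI : IsScalarTower R (A' ⊗[B'] R) (A ⊗[B'] R) := IsScalarTower.of_algebraMap_eq fun r => by
    simp [RingHom.algebraMap_toAlgebra, Algebra.TensorProduct.right_algebraMap_apply]
  have hmap : ∀ (S : Type u) [CommRing S] [Algebra B' S] (g : S →ₐ[B'] A) (x : S ⊗[B'] R),
      Algebra.TensorProduct.map g (AlgHom.id B' R) x = g.toLinearMap.rTensor R x := fun S _ _ g x => by
    induction x using TensorProduct.induction_on with
    | zero => simp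
    | tmul a b => simp
    | add a b ha hb => simp [ha, hb]
  have hsq' : EtMil.IsFibreSquare R (B ⊗[B'] R) (A' ⊗[B'] R) (A ⊗[B'] R) := by
    refine ⟨fun z => ?_, fun x y hxy => ?_⟩
    · obtain ⟨w, hw⟩ := LinearMap.rTensor_surjective R
        (g := (IsScalarTower.toAlgHom B' A' A).toLinearMap) hsq.1 z
      exact ⟨w, (hmap A' _ w).trans hw⟩
    · obtain ⟨l, hl1, hl2⟩ := exists_eq_of_rTensor_eq hsq R x y
        ((hmap B _ x).symm.trans (hxy.trans (hmap A' _ y)))
      refine ⟨l, ⟨by rw [← hl1]; rfl, by rw [← hl2]; rfl⟩, fun l' hl' => ?_⟩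
      apply injective_of_flat hsq R
      simp only [Prod.mk.injEq]
      exact ⟨hl'.1.trans hl1.symm, hl'.2.trans hl2.symm⟩
  obtain ⟨n, f, hf⟩ := Module.Finite.exists_fin' R P
  refine Module.finitePresentation_of_surjective f hf ?_
  have hex : Function.Exact (LinearMap.ker f).subtype f := LinearMap.exact_subtype_ker_map f
  have key : ∀ (S₀ : Type u) [CommRing S₀] [Algebra B' S₀]
      [Module.FinitePresentation (S₀ ⊗[B'] R) ((S₀ ⊗[B'] R) ⊗[R] P)],
      Module.Finite (S₀ ⊗[B'] R) ((S₀ ⊗[B'] R) ⊗[R] LinearMap.ker f) := by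
    intro S₀ _ _ _
    have hnat : ∀ y : S₀ ⊗[B'] LinearMap.ker f,
        (LinearMap.ker f).subtype.baseChange (S₀ ⊗[B'] R)
          ((Algebra.IsPushout.cancelBaseChange B' S₀ R (S₀ ⊗[B'] R) (LinearMap.ker f)).symm y) =
        (Algebra.IsPushout.cancelBaseChange B' S₀ R (S₀ ⊗[B'] R) (Fin n → R)).symm
          (((LinearMap.ker f).subtype.restrictScalars B').lTensor S₀ y) := fun y => by
      induction y using TensorProduct.induction_on with
      | zero => simp
      | tmul a b => simp only [Algebra.IsPushout.cancelBaseChange_symm_tmul, LinearMap.baseChange_tmul,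
          LinearMap.lTensor_tmul, LinearMap.restrictScalars_apply]
      | add a b ha hb => simp [ha, hb]
    have hinj0 := LinearMap.lTensor_injective_of_exact_of_flat (f.restrictScalars B') hf
      ((LinearMap.ker f).subtype.restrictScalars B') Subtype.val_injective hex S₀
    have hinj : Function.Injective ((LinearMap.ker f).subtype.baseChange (S₀ ⊗[B'] R)) := by
      intro a b hab
      obtain ⟨a, rfl⟩ := (Algebra.IsPushout.cancelBaseChange B' S₀ R (S₀ ⊗[B'] R) (LinearMap.ker f)).symm.surjective a
      obtain ⟨b, rfl⟩ := (Algebra.IsPushout.cancelBaseChange B' S₀ R (S₀ ⊗[B'] R) (LinearMap.ker f)).symm.surjective b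
      rw [hnat, hnat] at hab
      rw [hinj0 ((Algebra.IsPushout.cancelBaseChange B' S₀ R (S₀ ⊗[B'] R) (Fin n → R)).symm.injective hab)]
    have hker : LinearMap.range ((LinearMap.ker f).subtype.baseChange (S₀ ⊗[B'] R)) =
        LinearMap.ker (f.baseChange (S₀ ⊗[B'] R)) := by
      ext x
      rw [LinearMap.mem_ker, LinearMap.baseChange_eq_ltensor]
      exact (lTensor_exact (S₀ ⊗[B'] R) hex hf x).symm
    have hfg := Module.FinitePresentation.fg_ker (f.baseChange (S₀ ⊗[B'] R))
      (LinearMap.baseChange_surjective (S₀ ⊗[B'] R) hf)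
    rw [← hker] at hfg
    haveI := Module.Finite.iff_fg.2 hfg
    exact Module.Finite.equiv (LinearEquiv.ofInjective _ hinj).symm
  haveI := key B
  haveI := key A'
  exact Module.Finite.iff_fg.1 (finite hsq' (LinearMap.ker f))

/-- Finite presentation of base changes through a finitely presented quotient ring. -/
theorem fp_baseChange_quot {R S D' D P : Type u} [CommRing R] [CommRing S] [CommRing D'] [CommRing D]
    [Algebra R S] [Algebra R D'] [Algebra D' D] [Module.FinitePresentation R D']
    [AddCommGroup P] [Module D' P] [Module R P] [IsScalarTower R D' P]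
    (ψ : D →ₐ[D'] S ⊗[R] D') (h : Module.FinitePresentation D (D ⊗[D'] P)) :
    Module.FinitePresentation S (S ⊗[R] P) := by
  letI := ψ.toRingHom.toAlgebra
  haveI : IsScalarTower D' D (S ⊗[R] D') := IsScalarTower.of_algebraMap_eq fun d => (ψ.commutes d).symm
  haveI : Module.FinitePresentation (S ⊗[R] D') ((S ⊗[R] D') ⊗[D'] P) :=
    Module.FinitePresentation.of_equiv
      (AlgebraTensorModule.cancelBaseChange D' D (S ⊗[R] D') (S ⊗[R] D') P)
  haveI : Module.FinitePresentation S ((S ⊗[R] D') ⊗[D'] P) :=
    Module.FinitePresentation.trans S _ (S ⊗[R] D')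
  exact Module.FinitePresentation.of_equiv (Algebra.IsPushout.cancelBaseChange R S D' (S ⊗[R] D') P)

/-- The algebra map from a pushout to an iterated tensor product. -/
noncomputable def toTensor (B' B R D' D : Type u) [CommRing B'] [CommRing B] [CommRing R] [CommRing D'] [CommRing D]
    [Algebra B' B] [Algebra B' R] [Algebra R D'] [Algebra B' D'] [IsScalarTower B' R D']
    [Algebra B D] [Algebra D' D] [Algebra B' D] [IsScalarTower B' B D] [IsScalarTower B' D' D]
    [Algebra.IsPushout B' B D' D] : D →ₐ[D'] (B ⊗[B'] R) ⊗[R] D' :=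
  haveI : IsScalarTower B' D' ((B ⊗[B'] R) ⊗[R] D') := IsScalarTower.of_algebraMap_eq fun x => by
    rw [IsScalarTower.algebraMap_apply B' R D']
    change (algebraMap B' (B ⊗[B'] R) x) ⊗ₜ[R] (1 : D') = (1 : B ⊗[B'] R) ⊗ₜ[R] algebraMap R D' (algebraMap B' R x)
    rw [Algebra.algebraMap_eq_smul_one (R := R) (A := D'), ← smul_tmul, Algebra.smul_def, mul_one,
      Algebra.TensorProduct.right_algebraMap_apply]
    exact congrArg (fun z : B ⊗[B'] R => z ⊗ₜ[R] (1 : D')) (Algebra.TensorProduct.tmul_one_eq_one_tmul x)
  let fB : B →ₐ[B'] (B ⊗[B'] R) ⊗[R] D' :=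
    { (algebraMap (B ⊗[B'] R) ((B ⊗[B'] R) ⊗[R] D')).comp (algebraMap B (B ⊗[B'] R)) with
      commutes' := fun x => rfl }
  let g : D' →ₐ[B'] (B ⊗[B'] R) ⊗[R] D' := IsScalarTower.toAlgHom B' D' ((B ⊗[B'] R) ⊗[R] D')
  let ψ := Algebra.pushoutDesc D fB g (fun _ _ => mul_comm _ _)
  { ψ.toRingHom with
    commutes' := fun d => Algebra.pushoutDesc_right D fB g (fun _ _ => mul_comm _ _) d }

/-- A finitely presented module over `R` killed by the kernel of `R → D` is finitely presented over `D`. -/
theorem fp_of_surjective {R D P : Type u} [CommRing R] [CommRing D] [Algebra R D] [AddCommGroup P]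
    [Module R P] [Module D P] [IsScalarTower R D P] [Module.FinitePresentation R P]
    (h : Function.Surjective (algebraMap R D)) : Module.FinitePresentation D P := by
  have hb : Function.Bijective (LinearMap.liftBaseChange D (LinearMap.id : P →ₗ[R] P)) := by
    constructor
    · intro a b hab
      obtain ⟨a, rfl⟩ := TensorProduct.mk_surjective R P D h a
      obtain ⟨b, rfl⟩ := TensorProduct.mk_surjective R P D h b
      simp only [TensorProduct.mk_apply, LinearMap.liftBaseChange_tmul, LinearMap.id_apply, one_smul] at hab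
      rw [hab]
    · exact fun p => ⟨(1 : D) ⊗ₜ p, by simp⟩
  exact Module.FinitePresentation.of_equiv (LinearEquiv.ofBijective _ hb)

end Groth.Agent.MilnorLib
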